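/- `p`-complements of `p`-soluble groups. -/
import Cfsg.Agent.PLocal.PSolvable
import Mathlib.GroupTheory.SchurZassenhaus

namespace CfsgLib.PSolvHall69

open Subgroup

universe u

variable {p : ℕ}

theorem exists_pComplement_aux [Fact p.Prime] (n : ℕ) : ∀ (G : Type u) [Group G] [Finite G],
    Nat.card G ≤ n → Cfsg.IsPSolvable p G →
      ∃ K : Subgroup G, ¬ p ∣ Nat.card K ∧ ∃ k : ℕ, K.index = p ^ k := by
  induction n with
  | zero => intro G _ _ h _; exact absurd h (by have := Nat.card_pos (α := G); omega)
  | succ n ih =>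
    intro G _ _ hn hG
    have hp : p.Prime := Fact.out
    rcases subsingleton_or_nontrivial G with hs | hs
    · refine ⟨⊥, by rw [Subgroup.card_bot]; exact hp.not_dvd_one, 0, ?_⟩
      rw [Subgroup.index_bot, pow_zero]; exact Nat.card_unique
    have lift : ∀ N : Subgroup G, N.Normal → N ≠ ⊥ → ∃ L : Subgroup G, N ≤ L ∧
        ¬ p ∣ N.relIndex L ∧ ∃ k : ℕ, L.index = p ^ k := by
      intro N hN hne
      haveI := hN
      have hlt : Nat.card (G ⧸ N) ≤ n := by
        have h1 := Subgroup.card_eq_card_quotient_mul_card_subgroup N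
        have h2 : 2 ≤ Nat.card N := Subgroup.one_lt_card_iff_ne_bot N |>.mpr hne
        have h3 : 0 < Nat.card (G ⧸ N) := Nat.card_pos
        have h4 : 2 * Nat.card (G ⧸ N) ≤ Nat.card G := by
          rw [h1, mul_comm 2]; exact Nat.mul_le_mul_left _ h2
        omega
      obtain ⟨K, hK, k, hk⟩ := ih (G ⧸ N) hlt (PLocal.isPSolvable_quotient hG N)
      refine ⟨K.comap (QuotientGroup.mk' N), ?_, ?_, k, ?_⟩
      · intro x hx
        show (x : G ⧸ N) ∈ K
        rw [(QuotientGroup.eq_one_iff x).mpr hx]; exact K.one_mem
      · have : N.relIndex (K.comap (QuotientGroup.mk' N)) = Nat.card K := by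
          have e : (⊥ : Subgroup (G ⧸ N)).comap (QuotientGroup.mk' N) = N := by
            rw [MonoidHom.comap_bot, QuotientGroup.ker_mk']
          calc N.relIndex (K.comap (QuotientGroup.mk' N))
              = ((⊥ : Subgroup (G ⧸ N)).comap (QuotientGroup.mk' N)).relIndex
                  (K.comap (QuotientGroup.mk' N)) := by rw [e]
            _ = Nat.card K := by
              rw [Subgroup.relIndex_comap,
                Subgroup.map_comap_eq_self_of_surjective (QuotientGroup.mk'_surjective N),
                Subgroup.relIndex_bot_left]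
        rw [this]; exact hK
      · rw [Subgroup.index_comap_of_surjective _ (QuotientGroup.mk'_surjective N), hk]
    rcases PLocal.pCore_ne_bot_or_of_isPSolvable hG with h | h
    · obtain ⟨L, hNL, hrel, k, hk⟩ := lift _ inferInstance h
      set N' := (Cfsg.pCore p G).subgroupOf L with hN'
      haveI : N'.Normal := inferInstance
      obtain ⟨e, he⟩ := IsPGroup.iff_card.mp (PLocal.isPGroup_pCore p G)
      have hcard : Nat.card N' = p ^ e := by
        rw [Nat.card_congr (Subgroup.subgroupOfEquivOfLe hNL).toEquiv, he]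
      have hcop : Nat.Coprime (Nat.card N') N'.index := by
        rw [hcard]; exact (hp.coprime_iff_not_dvd.mpr hrel).pow_left e
      obtain ⟨K, hK⟩ := Subgroup.exists_right_complement'_of_coprime hcop
      have hKc : Nat.card K = N'.index := by
        have h1 := hK.card_mul
        rw [← N'.card_mul_index] at h1
        exact Nat.eq_of_mul_eq_mul_left Nat.card_pos h1
      refine ⟨K.map L.subtype, ?_, e + k, ?_⟩
      · rw [Subgroup.card_map_of_injective L.subtype_injective, hKc]; exact hrel
      · have h1 := hK.card_mul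
        rw [hcard, ← K.card_mul_index, mul_comm] at h1
        rw [Subgroup.index_map_subtype, hk, ← Nat.eq_of_mul_eq_mul_left Nat.card_pos h1, pow_add]
    · obtain ⟨L, hNL, hrel, k, hk⟩ := lift _ inferInstance h
      refine ⟨L, ?_, k, hk⟩
      rw [← PLocal.card_mul_relIndex hNL, hp.dvd_mul, not_or]
      exact ⟨(PLocal.not_dvd_iff_coprime).mp (PLocal.coprime_card_pPrimeCore p G), hrel⟩

/-- A finite `p`-soluble group has a subgroup of order prime to `p` and of `p`-power index. -/
theorem exists_pComplement [Fact p.Prime] {G : Type u} [Group G] [Finite G]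
    (hG : Cfsg.IsPSolvable p G) :
    ∃ K : Subgroup G, ¬ p ∣ Nat.card K ∧ ∃ k : ℕ, K.index = p ^ k :=
  exists_pComplement_aux _ G le_rfl hG

/-- Such a subgroup complements every Sylow `p`-subgroup. -/
theorem isComplement'_sylow [Fact p.Prime] {G : Type u} [Group G] [Finite G] {K : Subgroup G}
    (hK : ¬ p ∣ Nat.card K) {k : ℕ} (hk : K.index = p ^ k) (P : Sylow p G) :
    K.IsComplement' (P : Subgroup G) := by
  have hp : p.Prime := Fact.out
  have hPc : Nat.card (P : Subgroup G) = p ^ k := by
    rw [Sylow.card_eq_multiplicity, ← K.card_mul_index, hk,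
      Nat.factorization_mul Nat.card_pos.ne' (pow_ne_zero _ hp.ne_zero), Finsupp.add_apply,
      hp.factorization_pow, Finsupp.single_eq_same, Nat.factorization_eq_zero_of_not_dvd hK, zero_add]
  apply Subgroup.isComplement'_of_coprime
  · rw [hPc, ← hk, K.card_mul_index]
  · rw [hPc]; exact ((hp.coprime_iff_not_dvd.mpr hK).pow_left k).symm

end CfsgLib.PSolvHall69
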